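import Mathlib.RingTheory.Artinian.Module
import Mathlib.RingTheory.Artinian.Algebra
import Mathlib.GroupTheory.CosetCover
import Mathlib.LinearAlgebra.LinearIndependent.Basic
import Mathlib.RingTheory.LocalRing.ResidueField.Basic
import Mathlib.RingTheory.Ideal.GoingUp
import Mathlib.RingTheory.TensorProduct.Finite

/-!
# Units in semilocal rings as combinations of characters

* `finite_maximalSpectrum`: a finite algebra over a local ring has finitely many maximal ideals.
* `exists_isUnit`: for `h : M → R`, `M` a field with an automorphism `σ` of order `≥ p` and `v_t ∈ R` (`t < p`) not all in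
  any maximal ideal of `R`, some `∑ t < p, h (σ^t e) v_t` is a unit.
-/

set_option autoImplicit false

universe u v w

namespace K464.LocUnit

/-- A finite algebra over a local ring has finitely many maximal ideals. -/
theorem finite_maximalSpectrum (V : Type u) (R : Type v) [CommRing V] [IsLocalRing V] [CommRing R] [Algebra V R]
    [Module.Finite V R] : Finite (MaximalSpectrum R) := by
  let 𝔪 := IsLocalRing.maximalIdeal V
  let I : Ideal R := 𝔪.map (algebraMap V R)
  have hI : ∀ P : Ideal R, P.IsMaximal → I ≤ P := by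
    intro P hP
    rw [Ideal.map_le_iff_le_comap]
    have h1 : (P.comap (algebraMap V R)).IsMaximal := Ideal.isMaximal_comap_of_isIntegral_of_isMaximal P
    rw [IsLocalRing.eq_maximalIdeal h1]
  have hfin : Module.Finite (V ⧸ 𝔪) (R ⧸ I) := by
    have : Module.Finite V (R ⧸ I) := inferInstance
    exact Module.Finite.of_restrictScalars_finite V (V ⧸ 𝔪) (R ⧸ I)
  let _ : Field (V ⧸ 𝔪) := Ideal.Quotient.field 𝔪
  have hart : IsArtinianRing (R ⧸ I) := IsArtinianRing.of_finite (V ⧸ 𝔪) (R ⧸ I)
  have hinj : Function.Injective fun P : MaximalSpectrum R => P.asIdeal.map (Ideal.Quotient.mk I) := by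
    intro P Q hPQ
    have h1 := congrArg (Ideal.comap (Ideal.Quotient.mk I)) hPQ
    simp only [Ideal.comap_map_of_surjective _ Ideal.Quotient.mk_surjective, ← RingHom.ker_eq_comap_bot,
      Ideal.mk_ker] at h1
    rw [sup_eq_left.2 (hI _ P.isMaximal), sup_eq_left.2 (hI _ Q.isMaximal)] at h1
    exact MaximalSpectrum.ext h1
  have hmax : ∀ P : MaximalSpectrum R, (P.asIdeal.map (Ideal.Quotient.mk I)).IsMaximal := by
    intro P
    have := P.isMaximal
    refine (Ideal.map_eq_top_or_isMaximal_of_surjective _ Ideal.Quotient.mk_surjective P.isMaximal).resolve_left ?_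
    intro h
    have h1 := congrArg (Ideal.comap (Ideal.Quotient.mk I)) h
    rw [Ideal.comap_map_of_surjective _ Ideal.Quotient.mk_surjective, ← RingHom.ker_eq_comap_bot, Ideal.mk_ker,
      sup_eq_left.2 (hI _ P.isMaximal), Ideal.comap_top] at h1
    exact P.isMaximal.ne_top h1
  exact Finite.of_injective (fun P : MaximalSpectrum R => (⟨_, hmax P⟩ : MaximalSpectrum (R ⧸ I)))
    fun P Q h => hinj (congrArg MaximalSpectrum.asIdeal h)

/-- Node (LOC). -/
theorem exists_isUnit {p : ℕ} {k : Type u} {M : Type v} {V : Type w} {R : Type w} [Field k] [Infinite k] [Field M]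
    [Algebra k M] [CommRing V] [IsLocalRing V] [CommRing R] [Algebra V R] [Module.Finite V R] (h : M →+* R)
    (σ : M ≃ₐ[k] M) (hσ : ∀ t, 0 < t → t < p → σ ^ t ≠ 1) (v : ℕ → R)
    (hv : ∀ P : Ideal R, P.IsMaximal → ∃ t < p, v t ∉ P) :
    ∃ e : M, IsUnit (∑ t ∈ Finset.range p, h ((σ ^ t) e) * v t) := by
  have hfin : Finite (MaximalSpectrum R) := finite_maximalSpectrum V R
  let W : MaximalSpectrum R → Submodule k M := fun P =>
    { carrier := {e | ∑ t ∈ Finset.range p, h ((σ ^ t) e) * v t ∈ P.asIdeal}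
      zero_mem' := by
        simp only [Set.mem_ofPred_eq, map_zero, zero_mul, Finset.sum_const_zero]
        exact zero_mem _
      add_mem' := by
        intro a b ha hb
        simp only [Set.mem_ofPred_eq, map_add, add_mul, Finset.sum_add_distrib] at ha hb ⊢
        exact add_mem ha hb
      smul_mem' := by
        intro c a ha
        simp only [Set.mem_ofPred_eq] at ha ⊢
        have h1 : ∑ t ∈ Finset.range p, h ((σ ^ t) (c • a)) * v t =
            h (algebraMap k M c) * ∑ t ∈ Finset.range p, h ((σ ^ t) a) * v t := by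
          rw [Finset.mul_sum]
          refine Finset.sum_congr rfl fun t _ => ?_
          rw [map_smul, Algebra.smul_def, map_mul, mul_assoc]
        rw [h1]
        exact Ideal.mul_mem_left _ _ ha }
  have hW : ∀ P, W P ≠ ⊤ := by
    intro P htop
    have := P.isMaximal
    obtain ⟨t₀, ht₀, hvt⟩ := hv P.asIdeal P.isMaximal
    let _ : Field (R ⧸ P.asIdeal) := Ideal.Quotient.field P.asIdeal
    let q : R →+* R ⧸ P.asIdeal := Ideal.Quotient.mk P.asIdeal
    let χ : Fin p → (M →* R ⧸ P.asIdeal) := fun t => ((q.comp h : M →+* R ⧸ P.asIdeal) : M →* R ⧸ P.asIdeal).comp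
      ((σ ^ (t : ℕ) : M ≃ₐ[k] M) : M →* M)
    have hχ : Function.Injective χ := by
      have key : ∀ i j : Fin p, (i : ℕ) ≤ j → χ i = χ j → i = j := by
        intro i j hij hχij
        by_contra hne
        have hlt : (i : ℕ) < j := lt_of_le_of_ne hij fun h => hne (Fin.ext h)
        apply hσ (j - i) (by omega) (by omega)
        ext x
        have h1 : q (h ((σ ^ (i : ℕ)) x)) = q (h ((σ ^ (j : ℕ)) x)) := DFunLike.congr_fun hχij x
        have h2 := (q.comp h).injective h1
        have h3 : σ ^ (j : ℕ) = σ ^ (i : ℕ) * σ ^ ((j : ℕ) - i) := by rw [← pow_add]; congr 1; omega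
        rw [h3, AlgEquiv.mul_apply] at h2
        rw [AlgEquiv.one_apply]
        exact ((σ ^ (i : ℕ)).injective h2).symm
      intro i j hij
      rcases le_total (i : ℕ) (j : ℕ) with h1 | h1
      · exact key i j h1 hij
      · exact (key j i h1 hij.symm).symm
    have hli := (linearIndependent_monoidHom M (R ⧸ P.asIdeal)).comp χ hχ
    rw [Fintype.linearIndependent_iff] at hli
    have h1 : ∑ t : Fin p, q (v t) • ((χ t : M →* R ⧸ P.asIdeal) : M → R ⧸ P.asIdeal) = 0 := by
      funext e
      have h2 : e ∈ W P := by rw [htop]; trivial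
      have h3 : q (∑ t ∈ Finset.range p, h ((σ ^ t) e) * v t) = 0 := Ideal.Quotient.eq_zero_iff_mem.2 h2
      rw [map_sum, ← Fin.sum_univ_eq_sum_range (fun t => q (h ((σ ^ t) e) * v t)) p] at h3
      rw [Finset.sum_apply, Pi.zero_apply, ← h3]
      refine Finset.sum_congr rfl fun t _ => ?_
      rw [Pi.smul_apply, smul_eq_mul, map_mul, mul_comm]
      rfl
    have h2 := hli (fun t => q (v t)) h1 ⟨t₀, ht₀⟩
    exact hvt (Ideal.Quotient.eq_zero_iff_mem.1 h2)
  have hcov : (⋃ P, (W P : Set M)) ≠ Set.univ := by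
    intro hcov
    obtain ⟨P, hP⟩ := Subspace.exists_eq_top_of_iUnion_eq_univ hcov
    exact hW P hP
  obtain ⟨e, he⟩ := (Set.ne_univ_iff_exists_notMem _).1 hcov
  refine ⟨e, ?_⟩
  by_contra hne
  obtain ⟨P, hP, hmem⟩ := exists_max_ideal_of_mem_nonunits hne
  exact he (Set.mem_iUnion.2 ⟨⟨P, hP⟩, hmem⟩)

end K464.LocUnit
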